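import Cfsg.Agent.A9M.A
import Cfsg.Agent.A9R.L6

/-! The alternating group on five points centralizing the four-group `V₀`. -/

set_option autoImplicit false

namespace Cfsg.Agent.A9M

open Equiv Subgroup

variable {G : Type*} [Group G] {a s : G} {σ : Perm (Fin 6) →* G}

theorem FA.x3x_s2 (h : FA a s σ) (x : G) : s * (s * x * s⁻¹) * s⁻¹ = x := by
  have is : s⁻¹ = s := inv_eq_of_mul_eq_one_right h.ss
  rw [is]
  calc _ = s * s * x * (s * s) := by group
    _ = x := by rw [h.ss]; group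

theorem FA.x3x_ev (h : FA a s σ) {π : Perm (Fin 6)} (e : Perm.sign π = 1) : Commute a (σ π) := by
  have := h.act π
  rw [if_pos e] at this
  exact (mul_inv_eq_iff_eq_mul.1 this).symm

theorem FA.five_x (h : FA a s σ)
    (cU : ∀ g, Commute g (σ (swap 3 4 * swap 2 5)) → Commute g (σ (swap 3 4 * swap 0 1)) → g * a * g⁻¹ ∈ zpowers a)
    (cV : ∀ g, Commute g (σ v1) → Commute g (σ v2) →
      ∃ v ∈ closure {σ v1, σ v2}, ∃ π, Perm.sign π = 1 ∧ g = v * (s * σ π * s⁻¹))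
    (k3 : ∃ g, Commute g (σ v1) ∧ Commute g (σ v2) ∧ g * a * g⁻¹ ∉ zpowers a) :
    ∀ π, Perm.sign π = 1 → π 2 = 2 → Commute (s * σ π * s⁻¹) (σ v1) ∧ Commute (s * σ π * s⁻¹) (σ v2) := by
  let θ : Perm (Fin 6) →* G := (MulAut.conj s).toMonoidHom.comp σ
  have hθ : ∀ π, θ π = s * σ π * s⁻¹ := fun _ => rfl
  have iθ : Function.Injective θ := (MulAut.conj s).injective.comp h.inj
  have θ3 : θ c3 = a := by rw [hθ, ← h.sa, h.x3x_s2]
  have θ1 : θ (swap 0 1 * swap 3 4) = σ (swap 0 1) := by rw [hθ, ← h.s01, h.x3x_s2]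
  have nrm : ∀ π, θ π * a * (θ π)⁻¹ ∈ zpowers a ↔ π * c3 * π⁻¹ ∈ zpowers c3 := fun π => by
    rw [← θ3, ← map_inv, ← map_mul, ← map_mul, ← MonoidHom.map_zpowers, mem_map_iff_mem iθ]
  let M : Subgroup (Perm (Fin 6)) := (centralizer {σ v1} ⊓ centralizer {σ v2}).comap θ
  have hM : ∀ π, π ∈ M ↔ Commute (θ π) (σ v1) ∧ Commute (θ π) (σ v2) := fun π => by
    simp only [M, mem_comap, mem_inf, mem_centralizer_singleton_iff]; rfl
  have cm : ∀ {x y : Perm (Fin 6)}, x * y = y * x → Commute (σ x) (σ y) := fun e => (Commute.map e σ)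
  have m3 : c3 ∈ M := (hM _).2 (by rw [θ3]; exact ⟨h.x3x_ev (by decide), h.x3x_ev (by decide)⟩)
  have m1 : swap 0 1 * swap 3 4 ∈ M := (hM _).2 (by rw [θ1]; exact ⟨cm (by decide), cm (by decide)⟩)
  obtain ⟨g, g1, g2, g3⟩ := k3
  obtain ⟨v, hv, π, -, e⟩ := cV g g1 g2
  have hv' : Commute v (σ v1) ∧ Commute v (σ v2) ∧ Commute v a := by
    have : closure {σ v1, σ v2} ≤ centralizer {σ v1} ⊓ centralizer {σ v2} ⊓ centralizer {a} := by
      refine (closure_le _).2 ?_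
      rintro _ (rfl | rfl)
      · exact ⟨⟨mem_centralizer_singleton_iff.2 rfl, mem_centralizer_singleton_iff.2 (cm (by decide))⟩,
          mem_centralizer_singleton_iff.2 (h.x3x_ev (by decide)).symm⟩
      · exact ⟨⟨mem_centralizer_singleton_iff.2 (cm (by decide)), mem_centralizer_singleton_iff.2 rfl⟩,
          mem_centralizer_singleton_iff.2 (h.x3x_ev (by decide)).symm⟩
    obtain ⟨⟨k1, k2⟩, k3⟩ := this hv
    exact ⟨mem_centralizer_singleton_iff.1 k1, mem_centralizer_singleton_iff.1 k2, mem_centralizer_singleton_iff.1 k3⟩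
  have e' : θ π = v⁻¹ * g := by rw [e, hθ]; group
  have mπ : π ∈ M := (hM _).2 (by rw [e']; exact ⟨hv'.1.inv_left.mul_left g1, hv'.2.1.inv_left.mul_left g2⟩)
  have nπ : π * c3 * π⁻¹ ∉ zpowers c3 := fun k => g3 (by
    obtain ⟨n, hn⟩ := (nrm π).2 k
    refine ⟨n, ?_⟩
    have hn' : a ^ n = θ π * a * (θ π)⁻¹ := hn
    show a ^ n = _
    calc a ^ n = v * a ^ n * v⁻¹ := by rw [(hv'.2.2.zpow_right n).eq, mul_inv_cancel_right]
      _ = _ := by rw [hn', e, ← hθ]; group)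
  let κ : Perm (Fin 6) →* Perm (Fin 6) := (MulAut.conj (swap (0 : Fin 6) 2)).toMonoidHom
  have hκ : ∀ x, κ x = swap 0 2 * x * (swap 0 2)⁻¹ := fun _ => rfl
  have κκ : ∀ x, κ (κ x) = x := fun x => by
    rw [hκ, hκ, swap_inv]
    calc _ = swap 0 2 * swap 0 2 * x * (swap 0 2 * swap 0 2) := by group
      _ = x := by rw [swap_mul_self]; group
  have κ3 : κ c3 = Pres.c3 3 4 5 := by rw [hκ]; decide
  rcases A9R.l6 (M.comap κ) (by rw [mem_comap, ← κ3, κκ]; exact m3)
    (by rw [mem_comap, show κ (swap 1 2 * swap 3 4) = swap 0 1 * swap 3 4 by rw [hκ]; decide]; exact m1)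
    (g := κ π) (by rw [mem_comap, κκ]; exact mπ) (fun k => nπ (by
      rw [← κ3, ← map_inv, ← map_mul, ← map_mul, ← MonoidHom.map_zpowers,
        mem_map_iff_mem (MulAut.conj (swap (0 : Fin 6) 2)).injective] at k
      exact k)) with k | k | k
  · rw [mem_comap, show κ (swap 0 5 * swap 3 4) = v1 by rw [hκ]; decide] at k
    have k2 := (nrm v1).1 (cU _ ((hM _).1 k).1 (by
      rw [show swap (3 : Fin 6) 4 * swap 0 1 = swap 0 1 * swap 3 4 by decide, ← h.s01, ← hθ]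
      exact Commute.map (show v1 * swap 0 1 = swap 0 1 * v1 by decide) θ))
    obtain ⟨n, hn⟩ := k2
    have k4 : (c3 ^ n) 2 = 2 := Perm.zpow_apply_eq_self_of_apply_eq_self (by decide) n
    have hn' : c3 ^ n = v1 * c3 * v1⁻¹ := hn
    rw [hn'] at k4
    exact absurd k4 (by decide)
  · rw [mem_comap, show κ (Pres.c3 0 1 2) = c2⁻¹ by rw [hκ]; decide] at k
    have k2 := ((hM _).1 (M.inv_mem_iff.1 k)).1
    rw [hθ, h.sb, ← map_inv] at k2
    have k3 := h.inj ((map_mul σ _ _).trans (k2.eq.trans (map_mul σ _ _).symm))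
    exact absurd k3 (by decide)
  · intro ρ e1 e2
    have := k (κ ρ) (by rw [hκ, swap_inv, Perm.mul_apply, Perm.mul_apply, swap_apply_left, e2, swap_apply_right])
      (by rw [hκ, Perm.sign_mul, Perm.sign_mul, Perm.sign_inv, e1, mul_one, Int.units_mul_self])
    rw [mem_comap, κκ] at this
    exact (hM _).1 this

end Cfsg.Agent.A9M
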